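import Groth.Agent.S2587
import Groth.Agent.S9501
import Groth.Agent.S9634
import Groth.Agent.H22Alg.GeomReducedAt
import Groth.Agent.H11Val.Point
import Groth.Agent.H11Div.SectionFibre
import Groth.Agent.H06EGA15.DimConst
import Groth.Agent.H3Cyc.GenStalk
import Groth.Agent.H8Props.Reduced
import Groth.Agent.H17.AffineCompl
import Groth.Agent.H06EGA12b.DVRLengths
import Groth.Agent.H8Props.FieldDimFibre
import Groth.Agent.H8Props.Devissage.Points
import Groth.Prelude.Def_EGA43
import Mathlib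

/-!
# Components universally open at a geometrically reduced maximal point of a fibre
-/

set_option autoImplicit false
set_option linter.style.haveILetI false
set_option backward.isDefEq.respectTransparency false

universe u

open CategoryTheory CategoryTheory.Limits AlgebraicGeometry TopologicalSpace IsLocalRing
open scoped TensorProduct

namespace Groth.Agent.H06EGA14b

/-- Geometric reducedness at a point is tested on finite purely inseparable extensions. -/
theorem isGeomReducedAt_of_purelyInseparable {k : Type u} [Field k] {F : Scheme.{u}}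
    (q : F ⟶ Spec (CommRingCat.of k)) (v : F)
    (h : ∀ (K : Type u) [Field K] [Algebra k K] [Module.Finite k K] [IsPurelyInseparable k K]
      (v' : ↥(FBase.bc q K)), FBase.bcπ q K v' = v → _root_.IsReduced ((FBase.bc q K).presheaf.stalk v')) :
    FBase.IsGeomReducedAt q v := by
  letI : F.Over (Spec (CommRingCat.of k)) := ⟨q⟩
  suffices hc : Curv2.IsGeomReducedAt k F v from hc
  letI := Curv2.stalkAlgebra k F v
  refine (H22Alg.GeomReducedAt.isGeomReducedAt_iff k F v).2 ((Groth.Agent.S9634.result.out 0 1).1 ?_)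
  intro K _ _ _ _
  refine H06Red.isReduced_comm k _ _ ?_
  let s := Spec.map (CommRingCat.ofHom (algebraMap k K))
  let i : pullback (F.fromSpecStalk v ≫ q) s ≅ Spec (CommRingCat.of (F.presheaf.stalk v ⊗[k] K)) :=
    pullback.congrHom (H22Alg.GeomReducedAt.fromSpecStalk_over k F v) rfl ≪≫ pullbackSpecIso k (F.presheaf.stalk v) K
  refine isReduced_ofLocalizationMaximal _ fun M hM => ?_
  let w : ↥(Spec (CommRingCat.of (F.presheaf.stalk v ⊗[k] K))) := ⟨M, hM.isPrime⟩
  have hw : IsClosed ({w} : Set ↥(Spec (CommRingCat.of (F.presheaf.stalk v ⊗[k] K)))) :=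
    (PrimeSpectrum.isClosed_singleton_iff_isMaximal w).mpr hM
  have he : IsClosed ({i.inv w} : Set ↥(pullback (F.fromSpecStalk v ≫ q) s)) := by
    have := i.inv.homeomorph.isClosedMap _ hw
    rwa [Set.image_singleton] at this
  have h1 := H22Alg.GaloisFibres.isClosedMap_bcπ (F.fromSpecStalk v ≫ q) K _ he
  rw [Set.image_singleton] at h1
  have h2 : pullback.fst (F.fromSpecStalk v ≫ q) s (i.inv w) = IsLocalRing.closedPoint _ :=
    ((IsLocalRing.specializes_closedPoint _).mem_closed h1 rfl).symm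
  have h3 : _root_.IsReduced ((pullback (F.fromSpecStalk v ≫ q) s).presheaf.stalk (i.inv w)) := by
    refine (H22Alg.GeomReducedAt.isReduced_stalk_iff _ s v _).mpr (h K _ ?_)
    refine (H22Alg.GeomReducedAt.fst_stalkBC _ s v _).trans ?_
    rw [h2, Scheme.fromSpecStalk_closedPoint]
  have h4 : _root_.IsReduced ((Spec (CommRingCat.of (F.presheaf.stalk v ⊗[k] K))).presheaf.stalk w) :=
    isReduced_of_injective (asIso (i.inv.stalkMap w)).inv.hom (asIso (i.inv.stalkMap w)).symm.commRingCatIsoToRingEquiv.injective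
  exact isReduced_of_injective (Spec.stalkIso (CommRingCat.of (F.presheaf.stalk v ⊗[k] K)) w).inv.hom
    (Spec.stalkIso (CommRingCat.of (F.presheaf.stalk v ⊗[k] K)) w).symm.commRingCatIsoToRingEquiv.injective

/-- A DVR inside a finite extension of the residue field of a generization. -/
theorem exists_dvr_hom {Y : Scheme.{u}} [IsLocallyNoetherian Y] {η y : Y} (h : η ⤳ y) (hne : η ≠ y)
    (K : Type u) [Field K] [Algebra (ResidueField (Y.presheaf.stalk η)) K]
    [Module.Finite (ResidueField (Y.presheaf.stalk η)) K] :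
    ∃ (V : ValuationSubring K) (g : Spec (CommRingCat.of V) ⟶ Y), IsDiscreteValuationRing V ∧
      g (IsLocalRing.closedPoint V) = y ∧
      Spec.map (CommRingCat.ofHom V.subtype) ≫ g =
        Spec.map (CommRingCat.ofHom (algebraMap (ResidueField (Y.presheaf.stalk η)) K)) ≫ Y.fromSpecResidueField η := by
  classical
  let j := algebraMap (ResidueField (Y.presheaf.stalk η)) K
  let χ : Y.presheaf.stalk η ⟶ CommRingCat.of K := Y.residue η ≫ CommRingCat.ofHom j
  let ψ := Y.presheaf.stalkSpecializes h ≫ χ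
  let I : Ideal (Y.presheaf.stalk y) := RingHom.ker ψ.hom
  have : I.IsPrime := RingHom.ker_isPrime _
  have hI : I ≠ maximalIdeal (Y.presheaf.stalk y) := by
    intro e
    refine hne (H11Val.eq_of_comap_stalkSpecializes_eq h ?_)
    rw [← e]
    ext a
    rw [Ideal.mem_comap, RingHom.mem_ker, ← IsLocalRing.residue_eq_zero_iff]
    exact ⟨fun hh => (congrArg j hh).trans (map_zero j), fun hh => j.injective (hh.trans (map_zero j).symm)⟩
  let A₀ := Y.presheaf.stalk y ⧸ I
  letI : Algebra A₀ K := (RingHom.kerLift ψ.hom).toAlgebra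
  have hmax : ((maximalIdeal (Y.presheaf.stalk y)).map (Ideal.Quotient.mk I)).IsPrime :=
    Ideal.map_isPrime_of_surjective Ideal.Quotient.mk_surjective (by
      rw [Ideal.mk_ker]; exact le_maximalIdeal Ideal.IsPrime.ne_top')
  have hmne : (maximalIdeal (Y.presheaf.stalk y)).map (Ideal.Quotient.mk I) ≠ ⊥ := by
    rw [Ne, Ideal.map_eq_bot_iff_le_ker, Ideal.mk_ker]
    exact fun hh => hI (le_antisymm (le_maximalIdeal Ideal.IsPrime.ne_top') hh)
  obtain ⟨S, hS⟩ : (⊤ : Submodule (ResidueField (Y.presheaf.stalk η)) K).FG := Module.Finite.fg_top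
  have hS' : Subfield.closure (Set.range (algebraMap A₀ K) ∪ S) = ⊤ := by
    rw [eq_top_iff]
    intro z hz0
    clear hz0
    have hz : z ∈ Submodule.span (ResidueField (Y.presheaf.stalk η)) (S : Set K) := hS ▸ Submodule.mem_top
    induction hz using Submodule.span_induction with
    | mem s hs => exact Subfield.subset_closure (Or.inr hs)
    | zero => exact zero_mem _
    | add a b _ _ ha hb => exact add_mem ha hb
    | smul c a _ ha =>
      rw [Algebra.smul_def]
      refine mul_mem ?_ ha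
      obtain ⟨c, rfl⟩ := Y.residue_surjective η c
      refine Subfield.closure_mono ?_ (H11Val.range_le_closure_range_specializes h χ.hom ⟨c, rfl⟩)
      rintro _ ⟨b, rfl⟩
      exact Or.inl ⟨Ideal.Quotient.mk I b, rfl⟩
  obtain ⟨V, hV, hc⟩ := H11Val.exists_dvr_center (A := A₀) K (RingHom.kerLift_injective ψ.hom) S hS'
    ((maximalIdeal (Y.presheaf.stalk y)).map (Ideal.Quotient.mk I)) hmne
  have hmemV : ∀ a, ψ.hom a ∈ V := fun a => (hc (Ideal.Quotient.mk I a)).1
  let φ : Y.presheaf.stalk y ⟶ CommRingCat.of V := CommRingCat.ofHom (ψ.hom.codRestrict V.toSubring hmemV)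
  have hloc : IsLocalHom φ.hom := ⟨fun a ha => by
    by_contra hh
    have h1 : V.valuation (ψ.hom a) < 1 :=
      (hc (Ideal.Quotient.mk I a)).2.1 (Ideal.mem_map_of_mem _ ((mem_maximalIdeal _).2 hh))
    exact (mem_maximalIdeal _).1 ((V.valuation_lt_one_iff ⟨_, hmemV a⟩).2 h1) ha⟩
  refine ⟨V, Spec.map φ ≫ Y.fromSpecStalk y, hV, ?_, ?_⟩
  · rw [Scheme.Hom.comp_apply]
    have : Spec.map φ (IsLocalRing.closedPoint V) = IsLocalRing.closedPoint (Y.presheaf.stalk y) :=
      IsLocalRing.comap_closedPoint (S := V) φ.hom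
    rw [this, Y.fromSpecStalk_closedPoint]
  · rw [← Category.assoc, ← Spec.map_comp, show φ ≫ CommRingCat.ofHom V.subtype = ψ from rfl]
    simp only [ψ, χ, Spec.map_comp, Category.assoc, Scheme.SpecMap_stalkSpecializes_fromSpecStalk,
      Scheme.fromSpecResidueField]
    rfl

/-- A maximal point of the closed fibre with a field as fibre ring and a generization off it. -/
theorem dvr_stalk {V : Type u} [CommRing V] [IsDomain V] [IsDiscreteValuationRing V] {P : Scheme.{u}}
    [IsLocallyNoetherian P] (q : P ⟶ Spec (CommRingCat.of V)) (x : P) (hx : q x = IsLocalRing.closedPoint V)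
    (v : q.fiber (IsLocalRing.closedPoint V)) (hv : q.fiberι _ v = x)
    (hmax : ∀ v', v' ⤳ v → v' = v) (hred : _root_.IsReduced ((q.fiber (IsLocalRing.closedPoint V)).presheaf.stalk v))
    {w : P} (hw : w ⤳ x) (hwx : q w ≠ IsLocalRing.closedPoint V) :
    _root_.IsReduced (P.presheaf.stalk w) ∧ ∀ w', w' ⤳ x → w' ≠ x → w' = w := by
  subst hv
  obtain ⟨hsurj, hker⟩ := S9501.result q _ v
  let B := P.presheaf.stalk (q.fiberι (IsLocalRing.closedPoint V) v)
  let B' := (q.fiber (IsLocalRing.closedPoint V)).presheaf.stalk v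
  have hmaxB : maximalIdeal B' ≤ nilradical B' := by
    rw [nilradical_eq_sInf]
    refine le_sInf fun J (hJ : J.IsPrime) => ?_
    let J' : PrimeSpectrum B' := ⟨J, hJ⟩
    have h1 := hmax _ ((Scheme.range_fromSpecStalk (x := v)).le ⟨J', rfl⟩)
    have h2 : J' = IsLocalRing.closedPoint B' :=
      ((q.fiber _).fromSpecStalk v).isEmbedding.injective (h1.trans Scheme.fromSpecStalk_closedPoint.symm)
    exact (congrArg PrimeSpectrum.asIdeal h2).ge
  have hmB : maximalIdeal B = RingHom.ker ((q.fiberι _).stalkMap v).hom := by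
    refine le_antisymm (fun b hb => ?_) (le_maximalIdeal (RingHom.ker_ne_top _))
    rw [RingHom.mem_ker, ← Submodule.mem_bot B', ← Ideal.zero_eq_bot, ← nilradical_eq_zero B']
    exact hmaxB ((mem_maximalIdeal _).2 fun hu => (mem_maximalIdeal _).1 hb ((isUnit_map_iff _ b).1 hu))
  obtain ⟨t, ht, -⟩ := H06EGA12b.DVRLengths.exists_generator (q.base (q.fiberι _ v)) hx
  let a : B := (q.stalkMap _).hom t
  have hma : maximalIdeal B = Ideal.span {a} := by
    rw [hmB, hker, ht, Ideal.map_span, Set.image_singleton]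
  obtain ⟨J, hJw, hJ⟩ : ∃ J : PrimeSpectrum B, P.fromSpecStalk _ J = w ∧ a ∉ J.asIdeal := by
    obtain ⟨J, hJ⟩ := (Scheme.range_fromSpecStalk (x := q.fiberι _ v)).ge hw
    refine ⟨J, hJ, fun ha => hwx ?_⟩
    have hcl : (Spec.map (q.stalkMap (q.fiberι _ v))) J = IsLocalRing.closedPoint _ := by
      refine PrimeSpectrum.ext (le_antisymm (le_maximalIdeal (Ideal.IsPrime.ne_top inferInstance)) ?_)
      show maximalIdeal _ ≤ _
      rw [ht, Ideal.span_singleton_le_iff_mem]
      exact ha
    rw [← hJ, ← Scheme.Hom.comp_apply, ← Scheme.SpecMap_stalkMap_fromSpecStalk, Scheme.Hom.comp_apply, hcl,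
      Scheme.fromSpecStalk_closedPoint]
    exact hx
  obtain ⟨_, _⟩ := H11Div.isDVR_of_maximalIdeal_eq_span B a hma fun hn => hJ (hn.elim fun n hn => J.isPrime.mem_of_pow_mem n (hn ▸ J.asIdeal.zero_mem))
  have hbot : ∀ J' : PrimeSpectrum B, J' ≠ IsLocalRing.closedPoint B → J'.asIdeal = ⊥ := fun J' hJ' => by
    by_contra hb
    exact hJ' (PrimeSpectrum.ext (IsLocalRing.eq_maximalIdeal (J'.isPrime.isMaximal hb)))
  have hJc : J ≠ IsLocalRing.closedPoint B := fun e => hJ (by
    rw [e]; exact hma.ge (Ideal.mem_span_singleton_self a))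
  refine ⟨?_, fun w' hw' hne => ?_⟩
  · letI := (P.presheaf.stalkSpecializes hw).hom.toAlgebra
    haveI := H3Cyc.GenStalk.isPrime_ker _ _ hw
    haveI := H3Cyc.GenStalk.isLocalization_stalkSpecializes _ _ hw
    exact isReduced_localizationPreserves (RingHom.ker (Cyc.specMap _ w hw)).primeCompl (P.presheaf.stalk w) inferInstance
  · obtain ⟨J', hJ'⟩ := (Scheme.range_fromSpecStalk (x := q.fiberι _ v)).ge hw'
    have hJ'c : J' ≠ IsLocalRing.closedPoint B := fun e => hne (by
      rw [← hJ', e, Scheme.fromSpecStalk_closedPoint])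
    rw [← hJ', ← hJw, PrimeSpectrum.ext ((hbot J' hJ'c).trans (hbot J hJc).symm)]

/-- Maximal points of a closed subset through the special fibre after base change to a DVR of an extension. -/
theorem exists_unique_generic {X Y : Scheme.{u}} [IsLocallyNoetherian Y] (f : X ⟶ Y) [LocallyOfFiniteType f]
    {η y : Y} (hη : η ⤳ y) (hηgen : ∀ y', y' ⤳ η → y' = η) (hne : η ≠ y)
    (zF : f.fiber y) (hzmax : ∀ z', z' ⤳ zF → z' = zF)
    (hzred : FBase.IsGeomReducedAt (f.fiberToSpecResidueField y) zF)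
    (X' : Closeds X) (hz : f.fiberι y zF ∈ X')
    (hopen : ∀ w : ↥(Scheme.IdealSheafData.vanishingIdeal X').subscheme,
      (Scheme.IdealSheafData.vanishingIdeal X').subschemeι w = f.fiberι y zF →
      EGA43.IsUnivOpenAt ((Scheme.IdealSheafData.vanishingIdeal X').subschemeι ≫ f) w)
    (K : Type u) [Field K] [Algebra (ResidueField (Y.presheaf.stalk η)) K]
    [Module.Finite (ResidueField (Y.presheaf.stalk η)) K]
    (V : ValuationSubring K) [IsDiscreteValuationRing V] (g : Spec (CommRingCat.of V) ⟶ Y)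
    (hgc : g (IsLocalRing.closedPoint V) = y)
    (hgg : Spec.map (CommRingCat.ofHom V.subtype) ≫ g =
        Spec.map (CommRingCat.ofHom (algebraMap (ResidueField (Y.presheaf.stalk η)) K)) ≫ Y.fromSpecResidueField η)
    (z'' : ↥(pullback f g)) (hz'' : pullback.fst f g z'' = f.fiberι y zF)
    (hz''q : pullback.snd f g z'' = IsLocalRing.closedPoint V)
    (hz''max : ∀ p, pullback.snd f g p = IsLocalRing.closedPoint V → p ⤳ z'' → p = z'') :
    ∃ (v : ↥(FBase.bc (f.fiberToSpecResidueField η) K)),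
      _root_.IsReduced ((FBase.bc (f.fiberToSpecResidueField η) K).presheaf.stalk v) ∧
      f.fiberι η (FBase.bcπ _ K v) ∈ X' ∧
      (∀ t, f t = η → t ⤳ f.fiberι η (FBase.bcπ _ K v) → t = f.fiberι η (FBase.bcπ _ K v)) ∧
      ∃ c : FBase.bc (f.fiberToSpecResidueField η) K ⟶ pullback f g, c v ⤳ z'' ∧
        c ≫ pullback.fst f g = FBase.bcπ _ K ≫ f.fiberι η ∧ pullback.snd f g (c v) ≠ IsLocalRing.closedPoint V ∧
        (∀ p, p ⤳ z'' → p ≠ z'' → p = c v) := by
  let P := pullback f g
  let q := pullback.snd f g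
  let fη := f.fiberToSpecResidueField η
  let σ := Spec.map (CommRingCat.ofHom (algebraMap (ResidueField (Y.presheaf.stalk η)) K))
  let j := Spec.map (CommRingCat.ofHom V.subtype)
  haveI : IsLocallyNoetherian P := LocallyOfFiniteType.isLocallyNoetherian q
  -- the point of the closed subscheme over `z''`
  let ιX := (Scheme.IdealSheafData.vanishingIdeal X').subschemeι
  haveI : LocallyOfFiniteType (ιX ≫ f) := inferInstance
  obtain ⟨w, hw⟩ : f.fiberι y zF ∈ Set.range ιX := by
    rw [Scheme.IdealSheafData.range_subschemeι, Scheme.IdealSheafData.coe_support_vanishingIdeal,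
      ]
    exact hz
  let m : pullback (ιX ≫ f) g ⟶ P := pullback.map _ _ _ _ ιX (𝟙 _) (𝟙 _) (by simp) (by simp)
  have hmr : z'' ∈ Set.range m := by
    rw [Scheme.Pullback.range_map]
    exact ⟨⟨w, hw.trans hz''.symm⟩, ⟨pullback.snd f g z'', rfl⟩⟩
  obtain ⟨w'', hw''⟩ := hmr
  have hmfst : m ≫ pullback.fst f g = pullback.fst (ιX ≫ f) g ≫ ιX := pullback.lift_fst _ _ _
  have hmsnd : m ≫ pullback.snd f g = pullback.snd (ιX ≫ f) g := (pullback.lift_snd _ _ _).trans (Category.comp_id _)
  have hw1 : ιX (pullback.fst (ιX ≫ f) g w'') = f.fiberι y zF := by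
    rw [← Scheme.Hom.comp_apply, ← hmfst, Scheme.Hom.comp_apply, hw'', hz'']
  have hw2 : pullback.snd (ιX ≫ f) g w'' = IsLocalRing.closedPoint V := by
    rw [← hmsnd, Scheme.Hom.comp_apply, hw'', hz''q]
  obtain ⟨u, hu, hune⟩ := (Groth.Agent.S2587.result (ιX ≫ f) (pullback.fst (ιX ≫ f) g w'')).1
    (hopen _ hw1) V g (by
      rw [hgc, Scheme.Hom.comp_apply, hw1]
      exact ((f.range_fiberι y).subset ⟨zF, rfl⟩).symm) w'' rfl hw2
  have hmu : m u ⤳ z'' := hw'' ▸ hu.map m.continuous
  have hmune : q (m u) ≠ IsLocalRing.closedPoint V := by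
    rw [← Scheme.Hom.comp_apply, hmsnd]; exact hune
  -- the local ring at `z''`
  obtain ⟨v'', hv''⟩ : z'' ∈ Set.range (q.fiberι (IsLocalRing.closedPoint V)) := by
    rw [q.range_fiberι]; exact hz''q
  have hv''max : ∀ v', v' ⤳ v'' → v' = v'' := fun v' hv' =>
    (q.fiberι _).isEmbedding.injective ((hz''max _ ((q.range_fiberι _).subset ⟨v', rfl⟩)
      (hv'' ▸ hv'.map (q.fiberι _).continuous)).trans hv''.symm)
  have key : ∀ (y0 : Y) (zF0 : f.fiber y0), f.fiberι y0 zF0 = f.fiberι y zF → y0 = y →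
      FBase.IsGeomReducedAt (f.fiberToSpecResidueField y0) zF0 := by
    rintro y0 zF0 h0 rfl
    obtain rfl := (f.fiberι y0).isEmbedding.injective h0
    exact hzred
  obtain ⟨zg, hzg⟩ : f.fiberι y zF ∈ Set.range (f.fiberι (g (IsLocalRing.closedPoint V))) := by
    rw [hgc]; exact ⟨zF, rfl⟩
  have hred := H06EGA15.isReduced_stalk_fiber_of_isGeomReducedAt f g (IsLocalRing.closedPoint V) v'' zg
    ((congrArg (pullback.fst f g) hv'').trans (hz''.trans hzg.symm)) (key _ zg hzg hgc)
  obtain ⟨hredu, huniq⟩ := dvr_stalk q z'' hz''q v'' hv'' hv''max hred hmu hmune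
  -- comparison with the base change of the generic fibre
  have hcond : (FBase.bcπ fη K ≫ f.fiberι η) ≫ f = (pullback.snd fη σ ≫ j) ≫ g := by
    rw [Category.assoc, Scheme.Hom.fiberι, pullback.condition, ← Category.assoc, Category.assoc _ j g, hgg]
    exact (congrArg (fun e => e ≫ Y.fromSpecResidueField η) (pullback.condition (f := fη) (g := σ))).trans
      (Category.assoc _ _ _)
  let c : FBase.bc fη K ⟶ P := pullback.lift (FBase.bcπ fη K ≫ f.fiberι η) (pullback.snd fη σ ≫ j) hcond
  have hc : IsPullback c (pullback.snd fη σ) q j := by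
    have hbig : IsPullback (FBase.bcπ fη K ≫ f.fiberι η) (pullback.snd fη σ) f (j ≫ g) := by
      rw [hgg]
      exact (IsPullback.of_hasPullback fη σ).paste_horiz (IsPullback.of_hasPullback f (Y.fromSpecResidueField η))
    refine IsPullback.of_right ?_ (pullback.lift_snd _ _ _) (IsPullback.of_hasPullback f g)
    rw [pullback.lift_fst]
    exact hbig
  haveI : IsPreimmersion j := IsPreimmersion.of_isLocalization (R := V) (S := K) (nonZeroDivisors V)
  haveI : Flat j := by
    haveI : Module.Flat V K := IsLocalization.flat K (nonZeroDivisors V)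
    exact (HasRingHomProperty.Spec_iff (P := @Flat)).mpr (RingHom.flat_algebraMap_iff.mpr inferInstance)
  haveI : IsPreimmersion c := MorphismProperty.of_isPullback (P := @IsPreimmersion) hc.flip inferInstance
  haveI : Flat c := MorphismProperty.of_isPullback (P := @Flat) hc.flip inferInstance
  have hgenK : ∀ k : Spec (CommRingCat.of K), j k ≠ IsLocalRing.closedPoint V := fun k e => by
    have h1 : k.asIdeal.comap V.subtype = maximalIdeal V := congrArg PrimeSpectrum.asIdeal e
    rw [(Ideal.eq_bot_or_top k.asIdeal).resolve_right k.isPrime.ne_top, ← RingHom.ker_eq_comap_bot,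
      (RingHom.injective_iff_ker_eq_bot _).1 Subtype.coe_injective] at h1
    exact IsDiscreteValuationRing.not_a_field V h1.symm
  have hcne : ∀ v1, q (c v1) ≠ IsLocalRing.closedPoint V := fun v1 => by
    rw [← Scheme.Hom.comp_apply, hc.w, Scheme.Hom.comp_apply]
    exact hgenK _
  obtain ⟨v, hv⟩ : m u ∈ Set.range c := by
    obtain ⟨k⟩ : Nonempty (Spec (CommRingCat.of K)) := inferInstance
    have hk : q (m u) = j k := by
      rcases H06EGA12b.DVRLengths.pt_cases (q (m u)) with h | h
      · exact absurd h hmune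
      · rcases H06EGA12b.DVRLengths.pt_cases (j k) with h' | h'
        · exact absurd h' (hgenK k)
        · rw [h, h']
    obtain ⟨e, he, -⟩ := Scheme.Pullback.exists_preimage_pullback (f := q) (g := j) (m u) k hk
    exact ⟨hc.isoPullback.inv e, by rw [← Scheme.Hom.comp_apply, hc.isoPullback_inv_fst]; exact he⟩
  have hcfst : ∀ v1, pullback.fst f g (c v1) = f.fiberι η (FBase.bcπ fη K v1) := fun v1 => by
    rw [← Scheme.Hom.comp_apply, pullback.lift_fst, Scheme.Hom.comp_apply]
  have hzne : ∀ v1, c v1 ≠ z'' := fun v1 e => hcne v1 (e ▸ hz''q)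
  refine ⟨v, ?_, ?_, ?_, c, hv ▸ hmu, pullback.lift_fst _ _ _, hcne v, fun p hp hpne => (huniq p hp hpne).trans hv.symm⟩
  · haveI : _root_.IsReduced (P.presheaf.stalk (c v)) := by rw [hv]; exact hredu
    let E := RingEquiv.ofBijective _ (H8Props.bijective_stalkMap_of_flat c v (Flat.stalkMap _ v))
    exact isReduced_of_injective E.symm.toRingHom E.symm.injective
  · rw [← hcfst, hv, ← Scheme.Hom.comp_apply, hmfst, Scheme.Hom.comp_apply]
    have h : ιX (pullback.fst (ιX ≫ f) g u) ∈ Set.range ιX := ⟨_, rfl⟩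
    rwa [Scheme.IdealSheafData.range_subschemeι, Scheme.IdealSheafData.coe_support_vanishingIdeal] at h
  · intro t hft ht
    obtain ⟨t', rfl⟩ : t ∈ Set.range (f.fiberι η) := by rw [f.range_fiberι]; exact hft
    haveI : Flat σ := (HasRingHomProperty.Spec_iff (P := @Flat)).mpr
      (RingHom.flat_algebraMap_iff.mpr inferInstance)
    haveI : Flat (FBase.bcπ fη K) := MorphismProperty.pullback_fst _ _ inferInstance
    obtain ⟨v1, hv1, hv1t⟩ := Flat.generalizingMap (FBase.bcπ fη K)
      ((f.fiberι η).isEmbedding.isInducing.specializes_iff.1 ht)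
    rw [← hv1t, c.isEmbedding.injective ((huniq (c v1) ((hv1.map c.continuous).trans (hv ▸ hmu)) (hzne v1)).trans
      hv.symm)]

open H8Props.FieldDim in
/-- A closed subset whose trace on the fibre has full local dimension contains the only component through the point. -/
theorem mem_of_localDim_eq {X Y : Scheme.{u}} (f : X ⟶ Y) [LocallyOfFiniteType f] (x : X) (X' : Closeds X) (hx : x ∈ X')
    (hdim : FlatMor.localDim ↥((X' : Set X) ∩ f.base ⁻¹' {f.base x}) ⟨x, ⟨hx, Set.mem_singleton (f.base x)⟩⟩ =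
          FlatMor.fibreDimAt f x)
    (zF : f.fiber (f.base x)) (hz : zF ⤳ f.asFiber x)
    (huniq : ∀ v, v ⤳ f.asFiber x → zF ⤳ v) : f.fiberι (f.base x) zF ∈ X' := by
  by_contra hzX
  let F := f.fiber (f.base x)
  let q := f.fiberToSpecResidueField (f.base x)
  haveI : LocallyOfFiniteType q := locallyOfFiniteType_fiberToSpec f _
  let C : Closeds F := ⟨(f.fiberι (f.base x)) ⁻¹' X', X'.isClosed.preimage (f.fiberι _).continuous⟩
  let ιC := (Scheme.IdealSheafData.vanishingIdeal C).subschemeι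
  have hrC : Set.range ιC = (C : Set F) := by
    rw [Scheme.IdealSheafData.range_subschemeι, Scheme.IdealSheafData.coe_support_vanishingIdeal]
  have hemb : Topology.IsEmbedding (fun s => f.fiberι (f.base x) (ιC s)) :=
    (f.fiberι _).isEmbedding.comp ιC.isEmbedding
  have hrange : Set.range (fun s => f.fiberι (f.base x) (ιC s)) = (X' : Set X) ∩ f.base ⁻¹' {f.base x} := by
    rw [Set.range_comp' (f.fiberι (f.base x)) ιC, hrC]
    show f.fiberι _ '' (f.fiberι _ ⁻¹' (X' : Set X)) = _
    rw [Set.image_preimage_eq_inter_range, f.range_fiberι]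
  obtain ⟨sx, hsx⟩ : f.asFiber x ∈ Set.range ιC := by
    rw [hrC]
    show f.fiberι _ (f.asFiber x) ∈ X'
    rw [f.fiberι_asFiber]; exact hx
  let e := hemb.toHomeomorph.trans (Homeomorph.setCongr hrange)
  have he : e sx = ⟨x, ⟨hx, Set.mem_singleton (f.base x)⟩⟩ :=
    Subtype.ext ((congrArg (f.fiberι (f.base x)) hsx).trans (f.fiberι_asFiber x))
  rw [← he, H8Props.Devissage.localDim_homeomorph, localDim_eq (ιC ≫ q)] at hdim
  obtain ⟨n, hn⟩ := exists_nat_cdim q zF
  have hle : cdim zF ≤ FlatMor.fibreDimAt f x := by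
    rw [show FlatMor.fibreDimAt f x = FlatMor.localDim F (f.asFiber x) from rfl, localDim_eq q]
    exact le_iSup (fun η : {η : F // η ⤳ f.asFiber x} => cdim η.1) ⟨zF, hz⟩
  have hlt : ∀ η : {η // η ⤳ sx}, cdim η.1 < cdim zF := fun η => by
    have h1 : zF ⤳ ιC η.1 := huniq _ (hsx ▸ η.2.map ιC.continuous)
    have h2 : zF ≠ ιC η.1 := fun e => hzX (by
      have h3 : zF ∈ (C : Set F) := hrC.subset ⟨η.1, e.symm⟩
      exact h3)
    refine lt_of_eq_of_lt ?_ (cdim_lt q h1 h2)
    unfold cdim
    rw [show closure ({η.1} : Set _) = ιC ⁻¹' closure ({ιC η.1} : Set F) by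
      rw [ιC.isEmbedding.closure_eq_preimage_closure_image, Set.image_singleton], dim_preimage ιC.isEmbedding,
      Set.inter_eq_left.mpr]
    exact closure_minimal (Set.singleton_subset_iff.mpr ⟨η.1, rfl⟩) ιC.isClosedEmbedding.isClosed_range
  rcases n with _ | n
  · obtain ⟨s, hs⟩ := exists_nat_cdim (ιC ≫ q) sx
    have h := hlt ⟨sx, specializes_rfl⟩
    rw [hn, hs] at h
    exact absurd (by exact_mod_cast h) (Nat.not_lt_zero s)
  · have hb : (⨆ η : {η // η ⤳ sx}, cdim η.1) ≤ (n : ℕ) := iSup_le fun η => by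
      obtain ⟨s, hs⟩ := exists_nat_cdim (ιC ≫ q) η.1
      have h := hlt η
      rw [hn, hs] at h
      rw [hs]
      have h' : s < n + 1 := by exact_mod_cast h
      exact_mod_cast Nat.lt_succ_iff.mp h'
    rw [hdim] at hb
    have h := hle.trans hb
    rw [hn] at h
    have h' : n + 1 ≤ n := by exact_mod_cast h
    omega

theorem exists_maximal_over {X Y : Scheme.{u}} (f : X ⟶ Y) {Y' : Scheme.{u}} (g : Y' ⟶ Y) (y' : Y')
    (hy' : IsClosed ({y'} : Set Y')) (zF : f.fiber (g y')) (hzmax : ∀ z', z' ⤳ zF → z' = zF) :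
    ∃ z'' : ↥(pullback f g), pullback.fst f g z'' = f.fiberι (g y') zF ∧ pullback.snd f g z'' = y' ∧
      ∀ p, pullback.snd f g p = y' → p ⤳ z'' → p = z'' := by
  obtain ⟨z0, hz0, hz0q⟩ := Scheme.Pullback.exists_preimage_pullback (f := f) (g := g) (f.fiberι (g y') zF) y'
    ((f.range_fiberι _).subset ⟨zF, rfl⟩)
  obtain ⟨z1, hz1, hz10, hmax⟩ := H17.AffineCompl.exists_maximal
    (hy'.preimage (pullback.snd f g).continuous : IsClosed ((pullback.snd f g) ⁻¹' {y'})) hz0q
  refine ⟨z1, ?_, hz1, fun p hp hpz => hmax p hp hpz⟩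
  obtain ⟨z', hz'⟩ : pullback.fst f g z1 ∈ Set.range (f.fiberι (g y')) := by
    rw [f.range_fiberι]
    show f (pullback.fst f g z1) = g y'
    rw [← Scheme.Hom.comp_apply, pullback.condition, Scheme.Hom.comp_apply]
    exact congrArg g hz1
  rw [← hz', hzmax z' ((f.fiberι _).isEmbedding.isInducing.specializes_iff.1
    (hz' ▸ hz0 ▸ hz10.map (pullback.fst f g).continuous))]

theorem bcπ_injective {k : Type u} [Field k] {F : Scheme.{u}} (q : F ⟶ Spec (CommRingCat.of k))
    (K : Type u) [Field K] [Algebra k K] [IsPurelyInseparable k K] :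
    Function.Injective (FBase.bcπ q K) := by
  haveI : UniversallyInjective (Spec.map (CommRingCat.ofHom (algebraMap k K))) := by
    refine ((tfae_universallyInjective _).out 0 1).2 fun L hL a b hab => ?_
    letI := hL
    obtain ⟨a, rfl⟩ := Spec.map_surjective a
    obtain ⟨b, rfl⟩ := Spec.map_surjective b
    have hab' : CommRingCat.ofHom (algebraMap k K) ≫ a = CommRingCat.ofHom (algebraMap k K) ≫ b :=
      Spec.map_injective (by rw [Spec.map_comp, Spec.map_comp]; exact hab)
    rw [CommRingCat.hom_ext (IsPurelyInseparable.injective_comp_algebraMap k K L congr(($hab').hom))]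
  haveI : UniversallyInjective (FBase.bcπ q K) := MorphismProperty.pullback_fst _ _ inferInstance
  exact (FBase.bcπ q K).injective

/-- EGA IV 15.3.?: components universally open at the generic point of a geometrically reduced fibre component. -/
theorem main {X Y : Scheme.{u}} [IrreducibleSpace Y] [IsLocallyNoetherian Y] (f : X ⟶ Y) [LocallyOfFiniteType f]
    (x : X)
    (h1 : ∃! Zc : Set ↥(f.fiber (f.base x)), Zc ∈ irreducibleComponents (↥(f.fiber (f.base x)) : Type u) ∧ f.asFiber x ∈ Zc)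
    (h2 : ∀ z : ↥(f.fiber (f.base x)), f.asFiber x ∈ closure {z} →
      (∀ z' : ↥(f.fiber (f.base x)), z ∈ closure {z'} → z' = z) →
      FBase.IsGeomReducedAt (f.fiberToSpecResidueField (f.base x)) z)
    (adm : Closeds X → Prop)
    (hadm : ∀ X', adm X' → (X' : Set X) ∈ irreducibleComponents (X : Type u) ∧ ∃ hx : x ∈ X',
        FlatMor.localDim ↥((X' : Set X) ∩ f.base ⁻¹' {f.base x}) ⟨x, ⟨hx, Set.mem_singleton (f.base x)⟩⟩ =
          FlatMor.fibreDimAt f x ∧
        ∀ w : ↥(Scheme.IdealSheafData.vanishingIdeal X').subscheme,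
          f.base ((Scheme.IdealSheafData.vanishingIdeal X').subschemeι.base w) = f.base x →
          x ∈ closure {(Scheme.IdealSheafData.vanishingIdeal X').subschemeι.base w} →
          (∀ t : X, t ∈ (X' : Set X) → f.base t = f.base x →
              (Scheme.IdealSheafData.vanishingIdeal X').subschemeι.base w ∈ closure {t} →
              t = (Scheme.IdealSheafData.vanishingIdeal X').subschemeι.base w) →
          EGA43.IsUnivOpenAt ((Scheme.IdealSheafData.vanishingIdeal X').subschemeι ≫ f) w) :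
    {X' : Closeds X | adm X'}.Subsingleton ∧
      ∀ X' : Closeds X, adm X' →
        ∀ ζ : ↥(f.fiber (genericPoint Y)), closure {(f.fiberι (genericPoint Y)).base ζ} = (X' : Set X) →
          FBase.IsGeomReducedAt (f.fiberToSpecResidueField (genericPoint Y)) ζ := by
  obtain ⟨Zc, ⟨hZc, hxZ⟩, hZuniq⟩ := h1
  obtain ⟨zF, rfl, hzmax⟩ := H8Props.FieldDim.mem_irreducibleComponents_iff hZc
  have hzx : zF ⤳ f.asFiber x := specializes_iff_mem_closure.2 hxZ
  have huniq : ∀ v, v ⤳ f.asFiber x → zF ⤳ v := fun v hv => by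
    obtain ⟨z', hz'v, hz'⟩ := H8Props.FieldDim.exists_component_generization v
    refine specializes_iff_mem_closure.2 ?_
    rw [← hZuniq _ ⟨hz', specializes_iff_mem_closure.1 (hz'v.trans hv)⟩]
    exact specializes_iff_mem_closure.1 hz'v
  have hzred := h2 zF hxZ fun z' hz' => hzmax z' (specializes_iff_mem_closure.2 hz')
  let η := genericPoint Y
  have hηgen : ∀ y', y' ⤳ η → y' = η := fun y' h => (h.antisymm (genericPoint_specializes y')).eq
  let z := f.fiberι (f.base x) zF
  have hfz : f z = f x := (f.range_fiberι _).subset ⟨zF, rfl⟩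
  have hcomp : ∀ X', adm X' → ∃ ζ : X, (X' : Set X) = closure {ζ} ∧ (∀ t, t ⤳ ζ → t = ζ) ∧ f ζ = η ∧ z ∈ X' ∧
      ∀ w : ↥(Scheme.IdealSheafData.vanishingIdeal X').subscheme,
        (Scheme.IdealSheafData.vanishingIdeal X').subschemeι w = z →
        EGA43.IsUnivOpenAt ((Scheme.IdealSheafData.vanishingIdeal X').subschemeι ≫ f) w := by
    intro X' hX'
    obtain ⟨hc, hx, hdim, hop⟩ := hadm X' hX'
    obtain ⟨ζ, hζ, hζmax⟩ := H8Props.FieldDim.mem_irreducibleComponents_iff hc
    have hzX : z ∈ X' := mem_of_localDim_eq f x X' hx hdim zF hzx huniq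
    have hopen : ∀ w : ↥(Scheme.IdealSheafData.vanishingIdeal X').subscheme,
        (Scheme.IdealSheafData.vanishingIdeal X').subschemeι w = z →
        EGA43.IsUnivOpenAt ((Scheme.IdealSheafData.vanishingIdeal X').subschemeι ≫ f) w := fun w hw => by
      refine hop w (by rw [hw]; exact hfz) ?_ fun t _ ht htz => ?_
      · rw [hw, ← specializes_iff_mem_closure]
        exact (f.fiberι_asFiber x) ▸ hzx.map (f.fiberι _).continuous
      · rw [hw] at htz ⊢
        obtain ⟨t', rfl⟩ : t ∈ Set.range (f.fiberι (f.base x)) := by rw [f.range_fiberι]; exact ht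
        rw [hzmax t' ((f.fiberι _).isEmbedding.isInducing.specializes_iff.1 (specializes_iff_mem_closure.2 htz))]
    let ιX := (Scheme.IdealSheafData.vanishingIdeal X').subschemeι
    have hrX : Set.range ιX = (X' : Set X) := by
      rw [Scheme.IdealSheafData.range_subschemeι, Scheme.IdealSheafData.coe_support_vanishingIdeal]
    obtain ⟨w, hw⟩ : z ∈ Set.range ιX := hrX.symm ▸ hzX
    obtain ⟨w', hw'⟩ := (pullback.fst (ιX ≫ f) (𝟙 Y)).surjective w
    have ho := hopen w hw Y (𝟙 Y) w' hw' Set.univ Filter.univ_mem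
    obtain ⟨O, hOsub, hO, hwO⟩ := mem_nhds_iff.mp ho
    obtain ⟨t, -, ht⟩ := hOsub ((genericPoint_specializes _).mem_open hO hwO : η ∈ O)
    have ht' : f (ιX (pullback.fst (ιX ≫ f) (𝟙 Y) t)) = η := by
      refine Eq.trans ?_ ht
      rw [← Scheme.Hom.comp_apply ιX f, ← Scheme.Hom.comp_apply (pullback.fst _ _),
        pullback.condition, Category.comp_id]
    have hζt : ζ ⤳ ιX (pullback.fst (ιX ≫ f) (𝟙 Y) t) :=
      specializes_iff_mem_closure.2 (hζ ▸ hrX ▸ Set.mem_range_self _)
    exact ⟨ζ, hζ, hζmax, hηgen _ (ht' ▸ hζt.map f.continuous), hzX, hopen⟩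
  by_cases hy : η = f x
  · have key : ∀ X', adm X' → (X' : Set X) = closure {z} := fun X' hX' => by
      obtain ⟨ζ, hζ, -, hfζ, hzX, -⟩ := hcomp X' hX'
      have h : ζ ⤳ z := specializes_iff_mem_closure.2 (hζ ▸ hzX)
      obtain ⟨ζ', rfl⟩ : ζ ∈ Set.range (f.fiberι (f.base x)) := by rw [f.range_fiberι]; exact hfζ.trans hy
      rw [hζ, hzmax ζ' ((f.fiberι _).isEmbedding.isInducing.specializes_iff.1 h)]
    refine ⟨fun X₁ h₁ X₂ h₂ => SetLike.coe_injective ((key X₁ h₁).trans (key X₂ h₂).symm), fun X' hX' ζ hζ => ?_⟩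
    have hζz : f.fiberι η ζ = z :=
      (show IsGenericPoint (f.fiberι η ζ) (closure {z}) from hζ.trans (key X' hX')).eq isGenericPoint_closure
    have tr : ∀ (y0 : Y) (zF0 : f.fiber y0), f.fiberι y0 zF0 = z → y0 = f x →
        FBase.IsGeomReducedAt (f.fiberToSpecResidueField y0) zF0 := by
      rintro y0 zF0 h0 rfl
      obtain rfl := (f.fiberι (f.base x)).isEmbedding.injective h0
      exact hzred
    exact tr _ ζ hζz hy
  have hηy : η ⤳ f x := genericPoint_specializes _
  have data : ∀ (K : Type u) [Field K] [Algebra (ResidueField (Y.presheaf.stalk η)) K]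
      [Module.Finite (ResidueField (Y.presheaf.stalk η)) K],
      ∃ (V : ValuationSubring K) (_ : IsDiscreteValuationRing V) (g : Spec (CommRingCat.of V) ⟶ Y)
        (z'' : ↥(pullback f g)), g (IsLocalRing.closedPoint V) = f x ∧
        Spec.map (CommRingCat.ofHom V.subtype) ≫ g =
          Spec.map (CommRingCat.ofHom (algebraMap (ResidueField (Y.presheaf.stalk η)) K)) ≫ Y.fromSpecResidueField η ∧
        pullback.fst f g z'' = z ∧ pullback.snd f g z'' = IsLocalRing.closedPoint V ∧
        ∀ p, pullback.snd f g p = IsLocalRing.closedPoint V → p ⤳ z'' → p = z'' := by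
    intro K _ _ _
    obtain ⟨V, g, hV, hgc, hgg⟩ := exists_dvr_hom hηy hy K
    have hcl : IsClosed ({IsLocalRing.closedPoint V} : Set (Spec (CommRingCat.of V))) :=
      isClosed_singleton_closedPoint V
    have hex : ∀ (y0 : Y) (zF0 : f.fiber y0), f.fiberι y0 zF0 = z → y0 = f x → ∀ z', z' ⤳ zF0 → z' = zF0 := by
      rintro y0 zF0 h0 rfl
      obtain rfl := (f.fiberι (f.base x)).isEmbedding.injective h0
      exact hzmax
    obtain ⟨zg, hzg⟩ : z ∈ Set.range (f.fiberι (g (IsLocalRing.closedPoint V))) := by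
      rw [hgc]; exact ⟨zF, rfl⟩
    obtain ⟨z'', h1, h2, h3⟩ := exists_maximal_over f g _ hcl zg (hex _ zg hzg hgc)
    exact ⟨V, hV, g, z'', hgc, hgg, h1.trans hzg, h2, h3⟩
  constructor
  · intro X₁ hX₁ X₂ hX₂
    obtain ⟨V, _, g, z'', hgc, hgg, hz1, hz2, hz3⟩ := data (ResidueField (Y.presheaf.stalk η))
    have get : ∀ X', adm X' → ∃ p, p ⤳ z'' ∧ p ≠ z'' ∧ (X' : Set X) = closure {pullback.fst f g p} ∧
        ∀ p', p' ⤳ z'' → p' ≠ z'' → p' = p := fun X' hX' => by
      obtain ⟨ζ, hζ, -, hfζ, hzX, hopen⟩ := hcomp X' hX'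
      obtain ⟨v, -, hvX, hvmax, c, hcz, hcfst, hcne, hu⟩ := exists_unique_generic f hηy hηgen hy zF hzmax hzred
        X' hzX hopen (ResidueField (Y.presheaf.stalk η)) V g hgc hgg z'' hz1 hz2 hz3
      refine ⟨c v, hcz, fun e => hcne (e ▸ hz2), ?_, hu⟩
      rw [hζ, hvmax ζ hfζ (specializes_iff_mem_closure.2 (hζ ▸ hvX)), ← Scheme.Hom.comp_apply c, hcfst,
        Scheme.Hom.comp_apply]
    obtain ⟨p₁, -, -, e₁, hu₁⟩ := get X₁ hX₁
    obtain ⟨p₂, hp₂, hne₂, e₂, -⟩ := get X₂ hX₂
    exact SetLike.coe_injective (e₁.trans ((hu₁ p₂ hp₂ hne₂) ▸ e₂).symm)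
  · intro X' hX' ζ hζ
    obtain ⟨ζ₀, hζ₀, -, hfζ, hzX, hopen⟩ := hcomp X' hX'
    refine isGeomReducedAt_of_purelyInseparable _ ζ fun K _ _ _ _ v' hv' => ?_
    obtain ⟨V, _, g, z'', hgc, hgg, hz1, hz2, hz3⟩ := data K
    obtain ⟨v, hred, hvX, hvmax, -⟩ := exists_unique_generic f hηy hηgen hy zF hzmax hzred
      X' hzX hopen K V g hgc hgg z'' hz1 hz2 hz3
    have hv : FBase.bcπ (f.fiberToSpecResidueField η) K v = ζ := by
      refine (f.fiberι η).isEmbedding.injective (hvmax _ ((f.range_fiberι η).subset ⟨ζ, rfl⟩) ?_).symm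
      exact specializes_iff_mem_closure.2 (hζ ▸ hvX)
    rwa [← bcπ_injective _ K (hv.trans hv'.symm)]

end Groth.Agent.H06EGA14b
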